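import Mathlib

/-!
# Exactness of the Amitsur complex as the Čech conerve
-/

set_option autoImplicit false
set_option linter.all false

universe u

open CategoryTheory CategoryTheory.Limits AlgebraicTopology
open scoped TensorProduct Simplicial

noncomputable section

namespace AmitsurCechLib

variable (R A : Type u) [CommRing R] [CommRing A] [Algebra R A]

/-- The structure map. -/
abbrev f : CommRingCat.of R ⟶ CommRingCat.of A := CommRingCat.ofHom (algebraMap R A)

/-- The terms of the Čech conerve. -/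
abbrev X (n : ℕ) : CommRingCat.{u} :=
  widePushout (CommRingCat.of R) (fun _ : Fin (n + 1) => CommRingCat.of A) fun _ => f R A

instance algX (n : ℕ) : Algebra R (X R A n) :=
  (WidePushout.head fun _ : Fin (n + 1) => f R A).hom.toAlgebra

/-- The conerve. -/
abbrev C : CosimplicialObject CommRingCat.{u} := (Arrow.mk (f R A)).cechConerve

theorem ι_δ (n : ℕ) (i : Fin (n + 2)) (j : Fin (n + 1)) :
    WidePushout.ι (fun _ : Fin (n + 1) => f R A) j ≫ (C R A).δ i =
      WidePushout.ι (fun _ : Fin (n + 2) => f R A) (i.succAbove j) :=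
  WidePushout.ι_desc _ _ _ _ _

theorem head_δ (n : ℕ) (i : Fin (n + 2)) :
    WidePushout.head (fun _ : Fin (n + 1) => f R A) ≫ (C R A).δ i =
      WidePushout.head (fun _ : Fin (n + 2) => f R A) :=
  WidePushout.head_desc _ _ _ _

/-- The cofaces. -/
def δ (n : ℕ) (i : Fin (n + 2)) : X R A n →ₐ[R] X R A (n + 1) :=
  { ((C R A).δ i).hom with
    commutes' := fun r => congrArg (fun g : CommRingCat.of R ⟶ X R A (n + 1) => g.hom r) (head_δ R A n i) }

/-- The inclusions. -/
def ι (n : ℕ) (j : Fin (n + 1)) : A →ₐ[R] X R A n :=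
  { (WidePushout.ι (fun _ : Fin (n + 1) => f R A) j).hom with
    commutes' := fun r => congrArg (fun g : CommRingCat.of R ⟶ X R A n => g.hom r)
      (WidePushout.arrow_ι (fun _ : Fin (n + 1) => f R A) j) }

theorem δ_ι (n : ℕ) (i : Fin (n + 2)) (j : Fin (n + 1)) :
    (δ R A n i).comp (ι R A n j) = ι R A (n + 1) (i.succAbove j) :=
  AlgHom.ext fun a => congrArg (fun g : CommRingCat.of A ⟶ X R A (n + 1) => g.hom a) (ι_δ R A n i j)

theorem algHom_ext {n : ℕ} {S : Type u} [CommRing S] [Algebra R S] {g g' : X R A n →ₐ[R] S}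
    (h : ∀ j, g.comp (ι R A n j) = g'.comp (ι R A n j)) : g = g' := by
  have : CommRingCat.ofHom g.toRingHom = CommRingCat.ofHom g'.toRingHom := by
    refine WidePushout.hom_ext _ _ _ (fun j => ?_) ?_
    · ext a
      exact AlgHom.congr_fun (h j) a
    · ext r
      exact (g.commutes r).trans (g'.commutes r).symm
  exact AlgHom.ext fun x => congrArg (fun k : X R A n ⟶ CommRingCat.of S => k.hom x) this

theorem exists_desc {n : ℕ} {S : Type u} [CommRing S] [Algebra R S] (φ : Fin (n + 1) → (A →ₐ[R] S)) :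
    ∃ g : X R A n →ₐ[R] S, ∀ j, g.comp (ι R A n j) = φ j := by
  let k : X R A n ⟶ CommRingCat.of S := WidePushout.desc (CommRingCat.ofHom (algebraMap R S))
    (fun j => CommRingCat.ofHom (φ j).toRingHom) (fun j => by ext r; exact (φ j).commutes r)
  let g : X R A n →ₐ[R] S :=
    { k.hom with
      commutes' := fun r =>
        congrArg (fun g : CommRingCat.of R ⟶ CommRingCat.of S => g.hom r) (WidePushout.head_desc _ _ _ _) }
  exact ⟨g,
    fun j => AlgHom.ext fun a =>
      congrArg (fun g : CommRingCat.of A ⟶ CommRingCat.of S => g.hom a)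
        (WidePushout.ι_desc (fun _ : Fin (n + 1) => f R A) (CommRingCat.ofHom (algebraMap R S))
          (fun j => CommRingCat.ofHom (φ j).toRingHom) _ j)⟩

/-- The alternating sum. -/
def d (n : ℕ) : X R A n →ₗ[R] X R A (n + 1) :=
  ∑ i : Fin (n + 2), (-1 : ℤ) ^ (i : ℕ) • (δ R A n i).toLinearMap

/-- The contraction after base change. -/
theorem exists_contraction : ∃ s : ∀ n, A ⊗[R] X R A (n + 1) →ₐ[R] A ⊗[R] X R A n,
    (∀ n, (s n).comp (Algebra.TensorProduct.map (AlgHom.id R A) (δ R A n 0)) = AlgHom.id R _) ∧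
    ∀ n (i : Fin (n + 2)), (s (n + 1)).comp (Algebra.TensorProduct.map (AlgHom.id R A) (δ R A (n + 1) i.succ)) =
      (Algebra.TensorProduct.map (AlgHom.id R A) (δ R A n i)).comp (s n) := by
  choose g hg using fun n : ℕ => exists_desc (n := n + 1) R A (S := A ⊗[R] X R A n)
    (Fin.cases Algebra.TensorProduct.includeLeft
      fun j => (Algebra.TensorProduct.includeRight : X R A n →ₐ[R] A ⊗[R] X R A n).comp (ι R A n j))
  refine ⟨fun n => Algebra.TensorProduct.lift Algebra.TensorProduct.includeLeft (g n) (fun _ _ => Commute.all _ _),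
    fun n => Algebra.TensorProduct.ext (AlgHom.ext fun a => ?_) ?_, fun n i => Algebra.TensorProduct.ext (AlgHom.ext fun a => ?_) ?_⟩
  · simp
  · refine algHom_ext R A fun j => AlgHom.ext fun a => ?_
    have h1 := AlgHom.congr_fun (δ_ι R A n 0 j) a
    have h2 := AlgHom.congr_fun (hg n (Fin.succ j)) a
    rw [Fin.succAbove_zero] at h1
    simp only [AlgHom.comp_apply] at h1 h2
    simp [h1, h2]
  · simp
  · refine algHom_ext R A fun j => AlgHom.ext fun a => ?_
    have h1 := AlgHom.congr_fun (δ_ι R A (n + 1) i.succ j) a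
    simp only [AlgHom.comp_apply] at h1
    induction j using Fin.cases with
    | zero =>
      have h2 := AlgHom.congr_fun (hg (n + 1) 0) a
      have h3 := AlgHom.congr_fun (hg n 0) a
      rw [Fin.succ_succAbove_zero] at h1
      simp only [AlgHom.comp_apply] at h2 h3
      simp [h1, h2, h3]
    | succ j =>
      have h2 := AlgHom.congr_fun (hg (n + 1) (Fin.succ (i.succAbove j))) a
      have h3 := AlgHom.congr_fun (hg n (Fin.succ j)) a
      have h4 := AlgHom.congr_fun (δ_ι R A n i j) a
      rw [Fin.succ_succAbove_succ] at h1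
      simp only [AlgHom.comp_apply] at h2 h3 h4
      simp [h1, h2, h3, h4]

/-- The underlying complex. -/
abbrev K : CochainComplex AddCommGrpCat.{u} ℕ :=
  AlternatingCofaceMapComplex.obj (C R A ⋙ forget₂ CommRingCat RingCat ⋙ forget₂ RingCat AddCommGrpCat)

theorem K_d (n : ℕ) (x : X R A n) : ((K R A).d n (n + 1)).hom x = d R A n x := by
  let Y : CosimplicialObject AddCommGrpCat.{u} := C R A ⋙ forget₂ CommRingCat RingCat ⋙ forget₂ RingCat AddCommGrpCat
  have h : (K R A).d n (n + 1) = AlternatingCofaceMapComplex.objD Y n :=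
    CochainComplex.of_d (fun n => Y.obj ⦋n⦌) (AlternatingCofaceMapComplex.objD Y) n
  rw [h, AlternatingCofaceMapComplex.objD, d, LinearMap.sum_apply]
  show AddCommGrpCat.homAddEquiv (∑ i : Fin (n + 2), (-1 : ℤ) ^ (i : ℕ) • Y.δ i) x = _
  rw [map_sum, AddMonoidHom.finset_sum_apply]
  refine Finset.sum_congr rfl fun i _ => ?_
  rw [map_zsmul, LinearMap.smul_apply]
  rfl

theorem exactAt [Module.FaithfullyFlat R A] (n : ℕ) : (K R A).ExactAt (n + 1) := by
  rw [(K R A).exactAt_iff' n (n + 1) (n + 2) (by simp) (by simp), ShortComplex.ab_exact_iff_function_exact]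
  have hsq : d R A (n + 1) ∘ₗ d R A n = 0 := LinearMap.ext fun x => by
    have h := congrArg (fun k => k.hom x) ((K R A).d_comp_d n (n + 1) (n + 2))
    change ((K R A).d (n + 1) (n + 2)).hom (((K R A).d n (n + 1)).hom x) = 0 at h
    rwa [K_d, K_d] at h
  have key : Function.Exact (d R A n) (d R A (n + 1)) := by
    rw [← Module.FaithfullyFlat.lTensor_exact_iff_exact R A]
    obtain ⟨s, hs₀, hs⟩ := exists_contraction R A
    intro z
    refine ⟨fun hz => ⟨s n z, ?_⟩, fun ⟨y, hy⟩ => ?_⟩
    · have hmap : ∀ (m : ℕ) (i : Fin (m + 2)) (w : A ⊗[R] X R A m),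
          (δ R A m i).toLinearMap.lTensor A w = Algebra.TensorProduct.map (AlgHom.id R A) (δ R A m i) w :=
        fun m i w => rfl
      have hexp : ∀ (m : ℕ) (w : A ⊗[R] X R A m), (d R A m).lTensor A w =
          ∑ i : Fin (m + 2), (-1 : ℤ) ^ (i : ℕ) • (δ R A m i).toLinearMap.lTensor A w := fun m w => by
        rw [d, ← LinearMap.coe_lTensorHom, map_sum, LinearMap.sum_apply]
        simp only [map_zsmul, LinearMap.smul_apply, LinearMap.coe_lTensorHom]
      have h := congrArg (s (n + 1)) hz
      rw [map_zero, hexp, map_sum, Fin.sum_univ_succ] at h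
      have h0 := AlgHom.congr_fun (hs₀ (n + 1)) z
      simp only [AlgHom.comp_apply, AlgHom.id_apply] at h0
      have h1 : ∀ i : Fin (n + 2), s (n + 1) ((δ R A (n + 1) i.succ).toLinearMap.lTensor A z) =
          (δ R A n i).toLinearMap.lTensor A (s n z) := fun i => by
        rw [hmap, hmap]
        exact AlgHom.congr_fun (hs n i) z
      simp only [map_zsmul, map_neg, h1, Fin.val_zero, pow_zero, one_smul, hmap (n + 1) 0, h0, Fin.val_succ, pow_succ,
        mul_neg, mul_one, neg_smul, map_neg, Finset.sum_neg_distrib] at h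
      rw [hexp]
      exact (eq_of_sub_eq_zero ((sub_eq_add_neg _ _).trans h)).symm
    · rw [← hy, ← LinearMap.comp_apply, ← LinearMap.lTensor_comp, hsq, LinearMap.lTensor_zero, LinearMap.zero_apply]
  intro x
  refine (Iff.trans ?_ (key x)).trans ⟨fun ⟨y, hy⟩ => ⟨y, (K_d R A n y).trans hy⟩,
    fun ⟨y, hy⟩ => ⟨y, (K_d R A n y).symm.trans hy⟩⟩
  exact Iff.of_eq (congrArg (· = 0) (K_d R A (n + 1) x))

end AmitsurCechLib
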